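import Cfsg.Agent.PQ.Spor.Eng
import Cfsg.Agent.TAB.Sm2.M11
import Cfsg.Agent.TAB.Sm2.M12
import Cfsg.Agent.TAB.Sm2.M22
import Cfsg.Agent.TAB.Sm2.M23
import Cfsg.Agent.TAB.Sm2.M24
import Cfsg.Agent.TAB.Sm2.Tits
import Cfsg.Agent.TAB.J2.Main
import Cfsg.Agent.TAB.J4.Main
import Cfsg.Agent.TAB.Co1.Main
import Cfsg.Agent.TAB.Co2.Main
import Cfsg.Agent.TAB.Co3.Main
import Cfsg.Agent.TAB.McL.Main
import Cfsg.Agent.TAB.HS.Main
import Cfsg.Agent.TAB.Suz.Main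
import Cfsg.Agent.TAB.He.Main
import Cfsg.Agent.TAB.Ru.Main
import Cfsg.Agent.TAB.ON.Main
import Cfsg.Agent.TAB.Ly.Main
import Cfsg.Agent.TAB.F22.Main
import Cfsg.Agent.TAB.F23C.Main
import Cfsg.Agent.TAB.F24C.Main
import Cfsg.Agent.TAB.HN.Main
import Cfsg.Agent.TAB.Th.Main
import Cfsg.Agent.TAB.B.Fin.Main
import Cfsg.Agent.TAB.M.Main

/-!
# PQ: the tables of the sporadic groups in one format (helper33)
-/

set_option autoImplicit false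
set_option maxRecDepth 100000

namespace Cfsg.Agent.PQ.Spor

open Cfsg Cfsg.Agent.TAB Cfsg.Agent.TAB.Eng Cfsg.Agent.TAB.Use
open Cfsg.Agent.TAB.Sm2 (mkRows)

universe u v

/-- a table with the exact numbers -/
def HasT (G : Type u) [Group G] (D : Dat) (R : Rows) : Prop := ∃ T : TD G D, T.Mass ∧ Tab T R

theorem HasT.pull {G : Type u} {H : Type v} [Group G] [Group H] {D : Dat} {R : Rows} (h : HasT H D R) (e : G ≃* H) :
    HasT G D R := h.elim fun T h => ⟨T.pull e, mass_pull h.1 e, tab_pull h.2 e⟩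

theorem tM11 : HasT Spor.M11 Sm2.M11.dat (mkRows Sm2.M11.rA Sm2.M11.rB) := Sm2.M11.tab.imp fun _ h => ⟨h.1, h.2.1⟩

theorem tM12 : HasT Spor.M12 Sm2.M12.dat (mkRows Sm2.M12.rA Sm2.M12.rB) := Sm2.M12.tab.imp fun _ h => ⟨h.1, h.2.1⟩

theorem tM22 : HasT Spor.M22 Sm2.M22.dat (mkRows Sm2.M22.rA Sm2.M22.rB) := Sm2.M22.tab.imp fun _ h => ⟨h.1, h.2.1⟩

theorem tM23 : HasT Spor.M23 Sm2.M23.dat (mkRows Sm2.M23.rA Sm2.M23.rB) := Sm2.M23.tab.imp fun _ h => ⟨h.1, h.2.1⟩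

theorem tM24 : HasT M24 Sm2.M24.dat (mkRows Sm2.M24.rA Sm2.M24.rB) := Sm2.M24.tab.imp fun _ h => ⟨h.1, h.2.1⟩

theorem tTits {S : Type} [Group S] (h : Lie.IsoTits S) : HasT S Sm2.Tits.dat (mkRows Sm2.Tits.rA Sm2.Tits.rB) :=
  (Sm2.Tits.tab_of h).imp fun _ h => ⟨h.1, h.2.2⟩

theorem tJ2 : HasT Spor.J2 J2.D (mkRows J2.A J2.B) :=
  H379.J2Spec.iso.elim fun e => HasT.pull (J2.tab.imp fun _ h => ⟨h.1, h.2.2.2.2.2⟩) e

theorem tJ4 : HasT Spor.J4 J4.D J4.RR := J4.tab.imp fun _ h => ⟨h.1, h.2.2⟩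

theorem tCo1 : HasT Spor.Co1 Co1.D Co1.RR := Co1.tab.imp fun _ h => ⟨h.1, h.2.2.2.2⟩

theorem tCo2 : HasT Spor.Co2 Co2.D (mkRows Co2.A Co2.B) := Co2.seeded.imp fun T (h : T.Mass ∧ _) =>
  have : Finite Spor.Co2 := Nat.finite_of_card_ne_zero (by rw [h.1.1]; decide)
  ⟨h.1, (Co.tab_of_virt h.1 Co2.ok_one
    (Co.virt_of_certs h.1.1 Co2.ok_primes h.2 (allL_spec Co2.ok_certs) Co2.ok_all) Co2.ok_rows).2⟩

theorem tCo3 : HasT Spor.Co3 Co3.D (mkRows Co3.A Co3.B) := Co3.seeded.imp fun _ h =>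
  have := Co3.finite
  ⟨h.1, (Co.tab_of_virt h.1 Co3.ok_one
    (Co.virt_of_certs h.1.1 Co3.ok_primes h.2 (allL_spec Co3.ok_certs) Co3.ok_all) Co3.ok_rows).2⟩

theorem tMcL : HasT Spor.McL McL.D McL.RR :=
  H359.CT.McL.iso_K0.elim fun e => HasT.pull (McL.tabK.imp fun _ h => ⟨h.1, h.2.2.1⟩) e.symm

theorem tHS : HasT Spor.HS HS.D (mkRows HS.A HS.B) := HS.seeded.imp fun _ h =>
  have := HS.finite
  ⟨h.1, (HS.tab h.1 h.2).2⟩

theorem tSuz : HasT Spor.Suz Sz.dat (mkRows Sz.rowA Sz.rowB) := ⟨_, Sz.mass, Sz.tab⟩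

theorem tHe : HasT Spor.He He.D He.RR := by
  have := He.finite
  obtain ⟨T, hm, hs⟩ := He.seeded
  have h1 := Sm1.virt_okC hm.1 hs He.ok_A
  have h2 := h1 He.u List.mem_cons_self
  have h3 := Co.virt_half hm h2 (fun p hp => h1 _ (List.mem_cons_of_mem _ (List.of_mem_zip hp).2)) He.ok_H
  have h4 : Virt T (nth He.w2) := (h2.add (h3.smul (-1))).congr (by decide +kernel)
  exact ⟨T, hm, Sm1.tab_of_cls hm (fun r hr => List.forall_mem_append.2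
    ⟨fun r hr => h1 r (List.mem_cons_of_mem _ (List.mem_cons_of_mem _ hr)),
      List.forall_mem_cons.2 ⟨h3, List.forall_mem_singleton.2 h4⟩⟩ _ (List.of_mem_zip hr).2) He.ok_R He.classes⟩

theorem tRu : HasT Spor.Ru Ru.D Ru.RR := by
  have := Ru.finite
  obtain ⟨T, hm, hs⟩ := Ru.seeded
  have h1 := Sm1.virt_five hm rfl hs 1 [1, 9, 14, 17, 18] (by decide) (by decide +kernel) Ru.ok_A
  have h2 := Sm1.virt_okC hm.1 (List.forall_mem_append.2 ⟨hs, List.forall_mem_singleton.2 h1⟩) Ru.ok_B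
  exact ⟨T, hm, Sm1.tab_of_cls hm (fun r hr => h2 _ (List.of_mem_zip hr).2) Ru.ok_R Ru.classes⟩

theorem tON : HasT Spor.ON ON.dON ON.tabON := ON.exists_tab.imp fun _ h => ⟨h.1, h.2.2.2⟩

theorem tLy : HasT Spor.Ly Ly.dat Ly.tb := Ly.tab.imp fun _ h => ⟨h.1, h.2.2⟩

theorem tFi22 : HasT Spor.Fi22 F22.dat (mkRows F22.rowA F22.rowB) := ⟨_, F22.mass, F22.tab⟩

theorem tFi23 : HasT Spor.Fi23 F23.D F23.R := F23C.inF23.imp fun _ h =>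
  have := h.finite
  ⟨h.1, F23.tab_of h⟩

theorem tFi24 : HasT Spor.Fi24' F24.DT F24.tabT := F24C.tab.imp fun _ h => ⟨h.1, h.2.2⟩

theorem tHN : HasT Spor.HN HN.dat HN.rows := ⟨_, HN.inT.mass, HN.tab⟩

theorem tTh : HasT Spor.Th Th.D (mkRows Th.rowA Th.rowB) := Th.tab.imp fun _ h => ⟨h.1, h.2.2.2.2⟩

theorem tB : HasT Spor.BabyMonster B.Fin.datF B.Fin.tabB := B.Fin.tab.imp fun _ h => ⟨h.1, h.2.1⟩

theorem tM : HasT Spor.Monster M.dat M.tabM := M.out.tab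

end Cfsg.Agent.PQ.Spor
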