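import Cfsg.Agent.TAB.Eng.Map
import Cfsg.Agent.Blocks.Orthogonality
import Cfsg.Agent.H700.PrinExt
import Cfsg.Agent.S4710
import Cfsg.Agent.S4736
import Cfsg.Agent.S4916
import Cfsg.Agent.H669.Basic
import Cfsg.Agent.Blocks.ExistsModular
import Cfsg.Agent.KZ.Tool.Crit

/-!
# PQ (S4887, S4827): two primes and principal blocks, the engine for tables (helper33)

* `Wit p q G` : a member of the principal `p`-block of degree prime to `p` and divisible by `q`; `Cm p q G` : commuting Sylow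
  subgroups; `Dich G` : the dichotomy; `Dich.row87`, `Dich.row27` : the statements S4887, S4827 for `G`;
* `mem_of_sum` : the criterion; `dich_of_tab` : the check on a table.
-/

set_option autoImplicit false
set_option linter.unusedSectionVars false

namespace Cfsg.Agent.PQ.Spor

open Cfsg Subgroup Cfsg.Agent.TAB.Eng Cfsg.Agent.TAB.Use

universe u v

/-- a member of the principal `p`-block whose degree is prime to `p` and divisible by `q` -/
def Wit (p q : ℕ) (G : Type u) [Group G] : Prop := ∀ M : Ideal AlgInt, IsPModular p M →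
  ∃ χ : IrrCharacter G, χ ∈ principalBlock M G ∧ ¬ p ∣ charDegree (χ : G → ℂ) ∧ q ∣ charDegree (χ : G → ℂ)

/-- commuting Sylow subgroups -/
def Cm (p q : ℕ) (G : Type u) [Group G] : Prop :=
  ∃ (P : Sylow p G) (Q : Sylow q G), ∀ x ∈ (P : Subgroup G), ∀ y ∈ (Q : Subgroup G), x * y = y * x

/-- the dichotomy for one pair -/
def Di (p q : ℕ) (G : Type u) [Group G] : Prop :=
  (¬ Cm p q G ∧ (Wit p q G ∨ Wit q p G)) ∨ (Cm p q G ∧ ¬ p ^ 2 ∣ Nat.card G ∧ ¬ q ^ 2 ∣ Nat.card G)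

/-- **the dichotomy** -/
def Dich (G : Type u) [Group G] : Prop :=
  ∀ p q : ℕ, p.Prime → q.Prime → p ≠ q → p ∣ Nat.card G → q ∣ Nat.card G → Di p q G

variable {G : Type u} [Group G] {p q : ℕ} {M : Ideal AlgInt}

theorem Cm.symm (h : Cm p q G) : Cm q p G := by
  obtain ⟨P, Q, h⟩ := h
  exact ⟨Q, P, fun x hx y hy => (h y hy x hx).symm⟩

theorem Di.symm (h : Di p q G) : Di q p G :=
  h.imp (fun h => ⟨fun h' => h.1 h'.symm, h.2.symm⟩) fun h => ⟨h.1.symm, h.2.2, h.2.1⟩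

theorem Cm.congr {H : Type v} [Group H] (e : G ≃* H) (h : Cm p q H) : Cm p q G := by
  obtain ⟨P, Q, h⟩ := h
  exact ⟨P.comapOfInjective e.toMonoidHom e.injective (by rw [MonoidHom.range_eq_top.2 e.surjective]; exact le_top),
    Q.comapOfInjective e.toMonoidHom e.injective (by rw [MonoidHom.range_eq_top.2 e.surjective]; exact le_top),
    fun x hx y hy => e.injective (by rw [map_mul, map_mul]; exact h _ hx _ hy)⟩

theorem Wit.congr {H : Type v} [Group H] (e : G ≃* H) (h : Wit p q H) : Wit p q G := fun M hM => by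
  obtain ⟨χ, h1, h2⟩ := h M hM
  have h3 : charDegree (H700.PrinExt.mapIrr e χ : G → ℂ) = charDegree (χ : H → ℂ) := by
    rw [charDegree, H700.PrinExt.mapIrr_apply, map_one]; rfl
  exact ⟨_, H700.PrinExt.mapIrr_mem e h1, h3 ▸ h2⟩

theorem Dich.congr {H : Type v} [Group H] (e : G ≃* H) (h : Dich H) : Dich G := fun p q hp hq hpq h1 h2 => by
  rw [Nat.card_congr e.toEquiv] at h1 h2
  unfold Di
  rw [Nat.card_congr e.toEquiv]
  exact (h p q hp hq hpq h1 h2).imp (fun h => ⟨fun h' => h.1 (h'.congr e.symm), h.2.imp (·.congr e) (·.congr e)⟩)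
    fun h => ⟨h.1.congr e, h.2⟩

variable [Finite G]

theorem deg_ne (χ : IrrCharacter G) : charDegree (χ : G → ℂ) ≠ 0 := fun h => Blocks.Basic.irr_one_ne_zero χ.2 (by
  rw [Blocks.Basic.irr_one_eq_charDegree χ.2, h, Nat.cast_zero])

/-- height zero for small Sylow subgroups -/
theorem hz_small [hp : Fact p.Prime] (hM : IsPModular p M) (h : ¬ p ^ 3 ∣ Nat.card G) {χ : IrrCharacter G}
    (hχ : χ ∈ principalBlock M G) : ¬ p ∣ charDegree (χ : G → ℂ) := fun hd => by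
  have := hM.2.1.isPrime
  have h1 : blockDefect p (principalBlock M G) ≤ 2 := by
    refine le_trans (Nat.sub_le _ _) ?_
    by_contra h2
    exact h ((hp.out.pow_dvd_iff_le_factorization Nat.card_pos.ne').2 (by omega))
  obtain ⟨h2, h3⟩ := (S4710.result p M hM _ (H700.PrinCrit.isPBlock_principal M G) _ rfl).2 χ hχ
  rw [S4736.blockHeight_principal] at h2 h3
  have h4 := hp.out.factorization_pos_of_dvd (deg_ne χ) hd
  omega

/-- commuting Sylow subgroups, one of them of prime order -/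
theorem not_dvd_of_cm [hp : Fact p.Prime] [hq : Fact q.Prime] (hM : IsPModular p M) (h : Cm p q G) (h1 : q ∣ Nat.card G)
    (h2 : ¬ q ^ 2 ∣ Nat.card G) {χ : IrrCharacter G} (hχ : χ ∈ principalBlock M G)
    (hd : ¬ p ∣ charDegree (χ : G → ℂ)) : ¬ q ∣ charDegree (χ : G → ℂ) := fun h3 => by
  obtain ⟨P, Q, h⟩ := h
  obtain ⟨y, hy⟩ := exists_prime_orderOf_dvd_card' q (G := Q) (Q.dvd_card_of_dvd_card h1)
  have h4 := (H700.PrinCrit.mem_principalBlock_iff hM P.2 P.not_dvd_index χ hd).1 hχ y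
    (mem_centralizer_iff.2 fun x hx => h x hx y y.2)
  rw [zero_of_dz χ.2 (Blocks.Basic.irr_one_eq_charDegree χ.2) hq.out (e := 1) (by rwa [pow_one]) h2 (by rwa [pow_one])
    (by rw [Subgroup.orderOf_coe, hy]), Blocks.Basic.irr_one_eq_charDegree χ.2, zero_sub, ← Int.cast_natCast,
    ← Int.cast_neg, Blocks.Local.memLocalIdeal_intCast_iff hM, dvd_neg, Int.natCast_dvd_natCast] at h4
  exact hd h4

theorem Wit.not_cm (hp : p.Prime) (hq : q.Prime) (h : Wit p q G) (h1 : q ∣ Nat.card G) (h2 : ¬ q ^ 2 ∣ Nat.card G) :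
    ¬ Cm p q G := fun h3 => by
  have := Fact.mk hp
  have := Fact.mk hq
  obtain ⟨M, hM⟩ := Blocks.ExistsModular.exists_isPModular hp
  obtain ⟨χ, h4, h5, h6⟩ := h M hM
  exact not_dvd_of_cm hM h3 h1 h2 h4 h5 h6

theorem cm_of_not_dvd [Fact p.Prime] (h : ¬ p ∣ Nat.card G) (q : ℕ) : Cm p q G := by
  obtain ⟨P⟩ : Nonempty (Sylow p G) := inferInstance
  obtain ⟨Q⟩ : Nonempty (Sylow q G) := inferInstance
  refine ⟨P, Q, fun x hx y _ => ?_⟩
  rw [P.2.card_eq_or_dvd.elim card_eq_one.1 fun h1 => absurd (h1.trans (card_subgroup_dvd_card _)) h, mem_bot] at hx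
  rw [hx, one_mul, mul_one]

theorem deg_one [Fact p.Prime] (hM : IsPModular p M) (h : ¬ p ∣ Nat.card G) {χ : IrrCharacter G}
    (hχ : χ ∈ principalBlock M G) : charDegree (χ : G → ℂ) = 1 := by
  rw [(S4916.result p M hM).2 h χ hχ fun h1 => h (h1.trans (H669.Basic.charDegree_dvd_card χ.2))]
  simp [charDegree]

/-- **S4887** for a group with the dichotomy -/
theorem Dich.row87 (h : Dich G) (p q : ℕ) [hp : Fact p.Prime] [hq : Fact q.Prime] (hpq : p ≠ q) (Mp Mq : Ideal AlgInt)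
    (hMp : IsPModular p Mp) (hMq : IsPModular q Mq) :
    ((∀ χ : IrrCharacter G, χ ∈ principalBlock Mp G → ¬ p ∣ charDegree (χ : G → ℂ) → ¬ q ∣ charDegree (χ : G → ℂ)) ∧
      (∀ χ : IrrCharacter G, χ ∈ principalBlock Mq G → ¬ q ∣ charDegree (χ : G → ℂ) → ¬ p ∣ charDegree (χ : G → ℂ))) ↔
      Cm p q G := by
  have h0 : ∀ {p q : ℕ} [Fact p.Prime] [Fact q.Prime] {Mp Mq : Ideal AlgInt}, IsPModular p Mp → ¬ p ∣ Nat.card G →
      (∀ χ : IrrCharacter G, χ ∈ principalBlock Mp G → ¬ p ∣ charDegree (χ : G → ℂ) → ¬ q ∣ charDegree (χ : G → ℂ)) ∧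
      (∀ χ : IrrCharacter G, χ ∈ principalBlock Mq G → ¬ q ∣ charDegree (χ : G → ℂ) → ¬ p ∣ charDegree (χ : G → ℂ)) :=
    fun {p q} _ hq _ _ hM h1 => ⟨fun χ hχ _ => by rw [deg_one hM h1 hχ]; exact hq.out.not_dvd_one,
      fun χ _ _ h2 => h1 (h2.trans (H669.Basic.charDegree_dvd_card χ.2))⟩
  by_cases h1 : p ∣ Nat.card G
  · by_cases h2 : q ∣ Nat.card G
    · rcases h p q hp.out hq.out hpq h1 h2 with ⟨h3, h4⟩ | ⟨h3, h4, h5⟩
      · refine iff_of_false (fun h5 => ?_) h3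
        rcases h4 with h4 | h4
        · obtain ⟨χ, h6, h7, h8⟩ := h4 Mp hMp
          exact h5.1 χ h6 h7 h8
        · obtain ⟨χ, h6, h7, h8⟩ := h4 Mq hMq
          exact h5.2 χ h6 h7 h8
      · exact iff_of_true ⟨fun χ => not_dvd_of_cm hMp h3 h2 h5, fun χ => not_dvd_of_cm hMq h3.symm h1 h4⟩ h3
    · exact iff_of_true (h0 hMq h2).symm (cm_of_not_dvd h2 p).symm
  · exact iff_of_true (h0 hMp h1) (cm_of_not_dvd h1 q)

/-- **S4827** for a group with the dichotomy -/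
theorem Dich.row27 (h : Dich G) (p q : ℕ) [hp : Fact p.Prime] [hq : Fact q.Prime] (hpq : p ≠ q) (h1 : p ∣ Nat.card G)
    (h2 : q ∣ Nat.card G) (Mp Mq : Ideal AlgInt) (hMp : IsPModular p Mp) (hMq : IsPModular q Mq) :
    Cm p q G ↔ ((∀ χ : IrrCharacter G, χ ∈ principalBlock Mq G → ¬ p ∣ charDegree (χ : G → ℂ)) ∧
      (∀ χ : IrrCharacter G, χ ∈ principalBlock Mp G → ¬ q ∣ charDegree (χ : G → ℂ))) := by
  rcases h p q hp.out hq.out hpq h1 h2 with ⟨h3, h4⟩ | ⟨h3, h4, h5⟩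
  · refine iff_of_false h3 fun h5 => ?_
    rcases h4 with h4 | h4
    · obtain ⟨χ, h6, -, h8⟩ := h4 Mp hMp
      exact h5.2 χ h6 h8
    · obtain ⟨χ, h6, -, h8⟩ := h4 Mq hMq
      exact h5.1 χ h6 h8
  · exact iff_of_true h3 ⟨fun χ hχ => not_dvd_of_cm hMq h3.symm h1 h4 hχ
      (hz_small hMq (fun h => h5 ((pow_dvd_pow q (by omega)).trans h)) hχ), fun χ hχ => not_dvd_of_cm hMp h3 h2 h5 hχ
      (hz_small hMp (fun h => h4 ((pow_dvd_pow p (by omega)).trans h)) hχ)⟩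

/-! ### criteria -/

open Classical in
/-- **the criterion** : the sum over the `p`-regular elements -/
theorem sum_eq_zero [Fintype G] (hM : IsPModular p M) {χ : IrrCharacter G} (h : χ ∉ principalBlock M G) :
    ∑ g, (if p ∣ orderOf g then 0 else (χ : G → ℂ) g) = 0 := by
  have := hM.2.1.isPrime
  have h1 := Blocks.Orthogonality.orthogonal_on_p_regular hM _
    (Blocks.Osima.memLocalRing_blockCoeff hM (H700.PrinCrit.isPBlock_principal M G)) _ χ H700.PrinCrit.one_mem_principal h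
  rw [finsum_mem_eq_finite_toFinset_sum _ (Set.toFinite _)] at h1
  have h2 := congrArg (starRingEnd ℂ) h1
  rw [map_sum, map_zero] at h2
  rw [Set.Finite.toFinset_ofPred, Finset.sum_filter] at h2
  refine Eq.trans (Finset.sum_congr rfl fun g _ => ?_) h2
  rw [ite_not, map_mul, starRingEnd_self_apply]
  rw [show (H700.PrinCrit.oneIrr G : G → ℂ) g = 1 from rfl, map_one, one_mul]

/-- an element of order `p q` -/
theorem cm_of_elt (hp : p.Prime) (hq : q.Prime) {z : G} (hz : orderOf z = p * q) (h1 : ¬ p ^ 2 ∣ Nat.card G)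
    (h2 : ¬ q ^ 2 ∣ Nat.card G) : Cm p q G := by
  have key : ∀ {p q : ℕ}, p.Prime → q.Prime → orderOf z = q * p → ¬ p ^ 2 ∣ Nat.card G →
      ∃ P : Sylow p G, (P : Subgroup G) ≤ zpowers z := fun {p q} hp hq hz h1 => by
    have := Fact.mk hp
    have h3 : Nat.card (zpowers (z ^ q)) = p := by
      rw [Nat.card_zpowers, orderOf_pow_of_dvd hq.ne_zero (hz ▸ dvd_mul_right q p), hz, Nat.mul_div_cancel_left _ hq.pos]
    obtain ⟨P, hP⟩ := (IsPGroup.of_card (n := 1) (by rw [h3, pow_one])).exists_le_sylow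
    refine ⟨P, (eq_of_le_of_card_ge hP ?_).ge.trans (zpowers_le.2 (pow_mem (mem_zpowers z) q))⟩
    obtain ⟨n, hn⟩ := P.2.exists_card_eq
    rw [h3, hn]
    by_contra h4
    refine h1 ((pow_dvd_pow p ?_).trans (hn ▸ card_subgroup_dvd_card _))
    by_contra h5
    exact h4 ((Nat.pow_le_pow_right hp.pos (by omega)).trans_eq (pow_one p))
  obtain ⟨P, hP⟩ := key hp hq (hz.trans (mul_comm _ _)) h1
  obtain ⟨Q, hQ⟩ := key hq hp hz h2
  refine ⟨P, Q, fun x hx y hy => ?_⟩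
  obtain ⟨i, rfl⟩ := hP hx
  obtain ⟨j, rfl⟩ := hQ hy
  exact (Commute.zpow_zpow_self z i j).eq

theorem exists_conj_mem [Fact p.Prime] (P : Sylow p G) {x : G} {k : ℕ} (hx : orderOf x ∣ p ^ k) :
    ∃ g : G, g * x * g⁻¹ ∈ (P : Subgroup G) := by
  obtain ⟨P', hP⟩ := (IsPGroup.of_card_dvd_pow (G := zpowers x) (by rwa [Nat.card_zpowers])).exists_le_sylow
  obtain ⟨g, rfl⟩ := MulAction.exists_smul_eq G P' P
  exact ⟨g, smul_mem_pointwise_smul _ (MulAut.conj g) _ (hP (mem_zpowers x))⟩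

/-- the centralizer of a Sylow subgroup is a `p`-group -/
def CP (p : ℕ) (G : Type u) [Group G] : Prop :=
  ∀ P : Sylow p G, ∀ x ∈ centralizer ((P : Subgroup G) : Set G), ¬ p ∣ orderOf x → x = 1

theorem CP.wit {L : List ℕ} (hC : CP p G) (hL : DegList G L) {d : ℕ} (hd : d ∈ L) (h1 : ¬ p ∣ d) (h2 : q ∣ d) :
    Wit p q G := fun M hM => by
  have := Fact.mk hM.1
  have := hM.2.1.isPrime
  obtain ⟨χ, hE⟩ := hL
  obtain ⟨j, hj, rfl⟩ := List.getElem_of_mem hd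
  obtain ⟨P⟩ : Nonempty (Sylow p G) := inferInstance
  have h3 : charDegree (χ j) = L[j] := (hE.charDegree_eq hj).trans (List.getD_eq_getElem _ _ hj)
  exact ⟨⟨χ j, hE.irr j hj⟩, KZ.Tool.mem_of_congr hM P (h3 ▸ h1) fun x hx h4 => by
    rw [hC P x hx h4, sub_self]
    exact Blocks.Local.memLocalIdeal_zero, h3 ▸ h1, h3 ▸ h2⟩

theorem CP.not_cm (hC : CP p G) (hp : p.Prime) (hq : q.Prime) (hpq : p ≠ q) (h : q ∣ Nat.card G) : ¬ Cm p q G := by
  rintro ⟨P, Q, h1⟩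
  have := Fact.mk hq
  obtain ⟨y, hy⟩ := exists_prime_orderOf_dvd_card' q (G := Q) (Q.dvd_card_of_dvd_card h)
  rw [← Subgroup.orderOf_coe] at hy
  have h2 := hC P y (mem_centralizer_iff.2 fun x hx => h1 x hx y y.2)
    fun h2 => hpq ((Nat.prime_dvd_prime_iff_eq hp hq).1 (hy ▸ h2))
  rw [h2, orderOf_one] at hy
  exact hq.ne_one hy.symm

theorem CP.di {L : List ℕ} (hC : CP p G) (hL : DegList G L) (d : ℕ) (hd : d ∈ L ∧ ¬ p ∣ d ∧ q ∣ d) (hp : p.Prime)
    (hq : q.Prime) (h : q ∣ Nat.card G) : Di p q G :=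
  .inl ⟨hC.not_cm hp hq (fun e => hd.2.1 (e ▸ hd.2.2)) h, .inl (hC.wit hL hd.1 hd.2.1 hd.2.2)⟩

/-- self-centralizing elements of order `p` -/
theorem cp_of_cent (hp : p.Prime) (hd : p ∣ Nat.card G)
    (h : ∀ x : G, orderOf x = p → Nat.card (centralizer ({x} : Set G)) = p) : CP p G := fun P y hy h1 => by
  have := Fact.mk hp
  obtain ⟨x, hx⟩ := exists_prime_orderOf_dvd_card' p (G := P) (P.dvd_card_of_dvd_card hd)
  rw [← Subgroup.orderOf_coe] at hx
  have h2 := orderOf_dvd_natCard (G := centralizer ({(x : G)} : Set G))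
    ⟨y, mem_centralizer_singleton_iff.2 (mem_centralizer_iff.1 hy x x.2).symm⟩
  rw [h x hx, Subgroup.orderOf_mk] at h2
  exact orderOf_eq_one_iff.1 (((Nat.dvd_prime hp).1 h2).resolve_right fun e => h1 (e ▸ dvd_rfl))

/-! ### tables -/

variable {D : Dat} {T : TD G D} {R : Rows}

/-- the sum over the `p`-regular types -/
def rsum (D : Dat) (p : ℕ) (w : List ℤ) : ℤ :=
  ((List.range D.n).map fun t => if D.ord t % p = 0 then 0 else (D.cnt t : ℤ) * w.getD t 0).sum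

theorem sum_ty [Fintype G] (hm : T.Mass) (f : ℕ → ℤ) :
    ∑ g, f (T.ty g) = ((List.range D.n).map fun t => (D.cnt t : ℤ) * f t).sum := by
  classical
  rw [← Finset.sum_fiberwise_of_maps_to (s := Finset.univ) (t := Finset.range D.n) (g := T.ty)
    fun g _ => Finset.mem_range.2 (T.lt g)]
  refine Eq.trans (Finset.sum_congr rfl fun t ht => ?_) (by rfl)
  rw [Finset.sum_congr rfl fun g hg => congrArg f (Finset.mem_filter.1 hg).2, Finset.sum_const,
    ← hm.2 t (Finset.mem_range.1 ht), Nat.card_eq_fintype_card, Fintype.card_subtype, nsmul_eq_mul]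

/-- the relation `i` contains a witness -/
def witB (D : Dat) (R : Rows) (p q i : ℕ) : Bool :=
  (R.rel[i]?).any fun r => (r.1.all fun c => decide (c.1 < R.n) && R.d c.1 % p != 0 && R.d c.1 % q == 0) &&
    rsum D p r.2 != 0

theorem wit_of_tab (hm : T.Mass) (h : Tab T R) {i : ℕ} (hc : witB D R p q i = true) : Wit p q G := fun M hM => by
  classical
  have := Fintype.ofFinite G
  obtain ⟨χ, hE, hR⟩ := h
  simp only [witB, Option.any_eq_true, Bool.and_eq_true, decide_eq_true_eq, bne_iff_ne, ne_eq, beq_iff_eq,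
    List.all_eq_true, ← Nat.dvd_iff_mod_eq_zero] at hc
  obtain ⟨r, h1, h2, h3⟩ := hc
  by_contra h4
  have h5 : ∀ l : List (ℕ × ℤ), (∀ c ∈ l, c ∈ r.1) →
      ∑ g, (if p ∣ orderOf g then 0 else (l.map fun c => (c.2 : ℂ) * χ c.1 g).sum) = 0 := fun l hl => by
    induction l with
    | nil => simp
    | cons c l ih =>
      obtain ⟨⟨h5, h6⟩, h7⟩ := h2 c (hl c List.mem_cons_self)
      have h8 := sum_eq_zero hM (χ := ⟨χ c.1, hE.irr _ h5⟩) fun h8 => h4 ⟨_, h8, hE.charDegree_eq h5 ▸ ⟨h6, h7⟩⟩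
      have h9 := congrArg₂ (· + ·) (congrArg ((c.2 : ℂ) * ·) h8) (ih fun c hc => hl c (List.mem_cons_of_mem _ hc))
      simp only [mul_zero, add_zero, Finset.mul_sum, ← Finset.sum_add_distrib] at h9
      refine Eq.trans (Finset.sum_congr rfl fun g _ => ?_) h9
      split_ifs <;> simp
  have h6 := h5 r.1 fun _ h => h
  simp only [hR r (List.mem_of_getElem? h1)] at h6
  have h7 := sum_ty hm fun t => if D.ord t % p = 0 then 0 else r.2.getD t 0
  simp only [mul_ite, mul_zero] at h7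
  refine h3 (h7.symm.trans (Int.cast_injective (α := ℂ) (Eq.trans ?_ (h6.trans Int.cast_zero.symm))))
  rw [Int.cast_sum]
  refine Finset.sum_congr rfl fun g _ => ?_
  simp only [← T.ord, ← Nat.dvd_iff_mod_eq_zero, Int.cast_ite, Int.cast_zero]

/-- no element has the types `s`, `t` as its two parts -/
def ncB (D : Dat) (p q s t : ℕ) : Bool :=
  decide (s < D.n) && decide (t < D.n) && D.cnt s != 0 && D.cnt t != 0 && p ^ 6 % D.ord s == 0 && q ^ 6 % D.ord t == 0 &&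
    (List.range D.n).all fun u => D.pwf u (D.ord t) != D.pwf s (D.ord t) || D.pwf u (D.ord s) != D.pwf t (D.ord s)

theorem exists_ty (hm : T.Mass) {s : ℕ} (h1 : s < D.n) (h2 : D.cnt s ≠ 0) : ∃ x, T.ty x = s := by
  rw [← hm.2 s h1] at h2
  obtain ⟨⟨g, hg⟩⟩ := (Nat.card_ne_zero.1 h2).1
  exact ⟨g, hg⟩

theorem nc_of_tab (hp : p.Prime) (hq : q.Prime) (hm : T.Mass) {s t : ℕ} (hc : ncB D p q s t = true) : ¬ Cm p q G := by
  rintro ⟨P, Q, h⟩
  have := Fact.mk hp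
  have := Fact.mk hq
  simp only [ncB, Bool.and_eq_true, decide_eq_true_eq, bne_iff_ne, ne_eq, beq_iff_eq, List.all_eq_true, List.mem_range,
    Bool.or_eq_true] at hc
  obtain ⟨⟨⟨⟨⟨⟨h1, h2⟩, h3⟩, h4⟩, h5⟩, h6⟩, h7⟩ := hc
  obtain ⟨x, rfl⟩ := exists_ty hm h1 h3
  obtain ⟨y, rfl⟩ := exists_ty hm h2 h4
  obtain ⟨g, hg⟩ := exists_conj_mem P (T.ord x ▸ Nat.dvd_of_mod_eq_zero h5)
  obtain ⟨g', hg'⟩ := exists_conj_mem Q (T.ord y ▸ Nat.dvd_of_mod_eq_zero h6)
  rw [← T.conj x g, ← T.conj y g'] at h7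
  have h8 : Commute _ _ := h _ hg _ hg'
  rcases h7 _ (T.lt (g * x * g⁻¹ * (g' * y * g'⁻¹))) with h9 | h9
  · exact h9 (by rw [← T.pow, ← T.pow, ← T.ord, h8.mul_pow, pow_orderOf_eq_one, mul_one])
  · exact h9 (by rw [← T.pow, ← T.pow, ← T.ord, h8.mul_pow, pow_orderOf_eq_one, one_mul])

/-- the primes -/
def PL : List ℕ := [2, 3, 5, 7, 11, 13, 17, 19, 23, 29, 31, 37, 41, 43, 47, 59, 67, 71]

theorem mem_PL {N : ℕ} (h : PL.prod ^ 50 % N = 0) (hp : p.Prime) (hd : p ∣ N) : p ∈ PL := by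
  obtain ⟨a, ha, h1⟩ := (Prime.dvd_prod_iff hp.prime).1 (hp.dvd_of_dvd_pow (hd.trans (Nat.dvd_of_mod_eq_zero h)))
  have h2 : ∀ a ∈ PL, a.Prime := by decide +kernel
  rwa [(Nat.prime_dvd_prime_iff_eq hp (h2 a ha)).1 h1]

/-- the check for one pair; certificate `(p, q, i, s, t)` -/
def diB (D : Dat) (R : Rows) (c : ℕ × ℕ × ℕ × ℕ × ℕ) : Bool :=
  (witB D R c.1 c.2.1 c.2.2.1 && (D.N % c.2.1 ^ 2 != 0 || ncB D c.1 c.2.1 c.2.2.2.1 c.2.2.2.2)) ||
    (decide (c.2.2.1 < D.n) && D.cnt c.2.2.1 != 0 && D.ord c.2.2.1 == c.1 * c.2.1 && D.N % c.1 ^ 2 != 0 &&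
      D.N % c.2.1 ^ 2 != 0)

theorem di_of_tab (hp : p.Prime) (hq : q.Prime) (hd : q ∣ Nat.card G) (hm : T.Mass) (h : Tab T R) {i s t : ℕ}
    (hc : diB D R (p, q, i, s, t) = true) : Di p q G := by
  simp only [diB, Bool.and_eq_true, decide_eq_true_eq, bne_iff_ne, ne_eq, beq_iff_eq, Bool.or_eq_true, ← hm.1,
    ← Nat.dvd_iff_mod_eq_zero] at hc
  rcases hc with ⟨h1, h2⟩ | ⟨⟨⟨⟨h1, h2⟩, h3⟩, h4⟩, h5⟩
  · have h3 := wit_of_tab hm h h1
    exact .inl ⟨h2.elim (h3.not_cm hp hq hd) (nc_of_tab hp hq hm), .inl h3⟩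
  · obtain ⟨z, rfl⟩ := exists_ty hm h1 h2
    exact .inr ⟨cm_of_elt hp hq ((T.ord z).trans h3) h4 h5, h4, h5⟩

/-- all pairs occur -/
def pairsB (N : ℕ) (C : List (ℕ × ℕ)) : Bool :=
  PL.prod ^ 50 % N == 0 && PL.all fun p => PL.all fun q => N % p != 0 || N % q != 0 || p == q ||
    C.any fun c => (c.1 == p && c.2 == q) || (c.1 == q && c.2 == p)

theorem dich_of_pairs {N : ℕ} (hN : Nat.card G = N) {C : List (ℕ × ℕ)} (hc : pairsB N C = true)
    (h : ∀ c ∈ C, c.1.Prime → c.2.Prime → c.1 ∣ Nat.card G → c.2 ∣ Nat.card G → Di c.1 c.2 G) : Dich G := by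
  intro p q hp hq hpq h1 h2
  simp only [pairsB, Bool.and_eq_true, bne_iff_ne, ne_eq, beq_iff_eq, List.all_eq_true, Bool.or_eq_true,
    List.any_eq_true, ← hN] at hc
  rcases hc.2 p (mem_PL hc.1 hp h1) q (mem_PL hc.1 hq h2) with ((h3 | h3) | h3) | ⟨c, h3, ⟨rfl, rfl⟩ | ⟨rfl, rfl⟩⟩
  · exact absurd (Nat.mod_eq_zero_of_dvd h1) h3
  · exact absurd (Nat.mod_eq_zero_of_dvd h2) h3
  · exact absurd h3 hpq
  · exact h c h3 hp hq h1 h2
  · exact (h c h3 hq hp h2 h1).symm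

/-- the check of a table -/
def dichB (D : Dat) (R : Rows) (C : List (ℕ × ℕ × ℕ × ℕ × ℕ)) : Bool :=
  pairsB D.N (C.map fun c => (c.1, c.2.1)) && C.all (diB D R)

/-- **the dichotomy from a table** -/
theorem dich_of_tab (hm : T.Mass) (h : Tab T R) (C : List (ℕ × ℕ × ℕ × ℕ × ℕ)) (hc : dichB D R C = true) : Dich G := by
  rw [dichB, Bool.and_eq_true, List.all_eq_true] at hc
  refine dich_of_pairs hm.1 hc.1 fun c h1 => ?_
  obtain ⟨c, h2, rfl⟩ := List.mem_map.1 h1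
  exact fun hp hq _ h3 => di_of_tab hp hq h3 hm h (hc.2 c h2)

end Cfsg.Agent.PQ.Spor
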