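import Cfsg.Agent.PQ.Spor.Cert
import Cfsg.Agent.PQ.Red.Defs
import Cfsg.Agent.TAB.J1.Main
import Cfsg.Agent.TAB.J3.Main
import Cfsg.Agent.S4929

/-!
# PQ (S4887, S4827): the rows of the sporadic groups and the Tits group (helper33)

`dich_spor`, `dich_tits` : the dichotomy; `fwSpor`, `cvSpor`, `fwTits`, `cvTits` : the rows.
-/

set_option autoImplicit false
set_option maxRecDepth 100000

namespace Cfsg.Agent.PQ.Spor

open Cfsg Subgroup Cfsg.Agent.TAB Cfsg.Agent.TAB.Use

section
variable {G : Type*} [Group G] [Finite G] {p q : ℕ}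

theorem cp_of_prime (hp : p.Prime)
    (h : ∀ y : G, (orderOf y).Prime → orderOf y ≠ p → p ∣ (centralizer ({y} : Set G)).index) : CP p G := by
  have := Fact.mk hp
  intro P x hx h3
  by_contra h1
  obtain ⟨r, hr, hd⟩ := Nat.exists_prime_and_dvd (orderOf_eq_one_iff.not.2 h1)
  have h2 := orderOf_pow_orderOf_div (orderOf_pos x).ne' hd
  refine H700.PrinCrit.not_dvd_index_of_mem_centralizer P.not_dvd_index (pow_mem hx (orderOf x / r))
    (h _ (h2.symm ▸ hr) ?_)
  rw [h2]
  rintro rfl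
  exact h3 hd

/-- the prime `2` and a Sylow subgroup of order at most `p ^ 2` -/
theorem di_two [IsSimpleGroup G] (hG : ¬ IsMulCommutative G) (hp : p.Prime) (h2 : p ≠ 2) (h7 : p ≠ 7) (hd : p ∣ Nat.card G)
    (h3 : ¬ p ^ 3 ∣ Nat.card G) (h : ∀ x : G, orderOf x = p → 2 ∣ (centralizer ({x} : Set G)).index) : Di p 2 G := by
  have := Fact.mk hp
  refine .inl ⟨fun ⟨P, Q, h1⟩ => ?_, .inl fun M hM => ?_⟩
  · obtain ⟨x, hx⟩ := exists_prime_orderOf_dvd_card' p (G := P) (P.dvd_card_of_dvd_card hd)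
    exact H700.PrinCrit.not_dvd_index_of_mem_centralizer Q.not_dvd_index
      (mem_centralizer_iff.2 fun y hy => (h1 x x.2 y hy).symm) (h x ((Subgroup.orderOf_coe x).trans hx))
  · obtain ⟨χ, h4, h5⟩ := S4929.result hG p h2 hd M hM fun h => h7 h.1
    exact ⟨χ, h4, hz_small hM h3 h4, h5⟩

omit [Finite G] in
theorem dvd_index {x : G} {c N : ℕ} (hN : Nat.card G = N) (hc : Nat.card (centralizer ({x} : Set G)) = c)
    (h : c ≠ 0 ∧ p ∣ N / c) : p ∣ (centralizer ({x} : Set G)).index := by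
  rw [← hN, ← (centralizer ({x} : Set G)).card_mul_index, hc, Nat.mul_div_cancel_left _ (Nat.pos_of_ne_zero h.1)] at h
  exact h.2

theorem not_comm [IsSimpleGroup G] (h : ¬ (Nat.card G).Prime) : ¬ IsMulCommutative G := fun h1 =>
  h (@IsSimpleGroup.prime_card G { ‹Group G› with mul_comm := h1.is_comm.comm } ‹_›)

end

theorem dJ1 : Dich Spor.J1 := by
  have := J1.finite
  have : IsSimpleGroup Spor.J1 := SporadicB.J1.Main.isJ1.1
  have hN := H413.JOneLocal.card_J1
  have hL := H413.JOneLocal.isLocal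
  have h0 : ¬ IsMulCommutative Spor.J1 := not_comm (by rw [hN]; norm_num)
  have h1 : ∀ p, p.Prime → p ∣ Nat.card Spor.J1 → H413.JOneSpec.Big p → CP p Spor.J1 := fun p hp hd h =>
    cp_of_cent hp hd fun x hx => (H417.JOneDeg.card_cent hL hN (hx ▸ h)).trans hx
  obtain ⟨z, hz⟩ := (H413.JOneSpec.exists_orderOf_iff 15).2 (by decide)
  refine dich_of_pairs hN (C := [(3, 2), (5, 2), (3, 5), (7, 2), (7, 3), (7, 5), (11, 2), (11, 3), (11, 5), (11, 7),
    (19, 2), (19, 3), (19, 5), (19, 7), (19, 11)]) (by decide +kernel) ?_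
  simp only [List.forall_mem_cons]
  refine ⟨fun hp _ hd _ => di_two h0 hp (by decide) (by decide) hd (by rw [hN]; decide) fun x hx =>
      dvd_index hN (hL.cent3 x hx) (by decide),
    fun hp _ hd _ => di_two h0 hp (by decide) (by decide) hd (by rw [hN]; decide) fun x hx =>
      dvd_index hN (hL.cent5 x hx) (by decide),
    fun hp hq _ _ => .inr ⟨cm_of_elt hp hq hz (by rw [hN]; decide) (by rw [hN]; decide), by rw [hN]; decide,
      by rw [hN]; decide⟩, ?_, ?_, ?_, ?_, ?_, ?_, ?_, ?_, ?_, ?_, ?_, ?_, List.forall_mem_nil _⟩ <;> intro hp hq hd hd'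
  iterate 3 exact (h1 7 hp hd (.inl rfl)).di J1.deg 120 (by decide) hp hq hd'
  iterate 3 exact (h1 11 hp hd (.inr (.inl rfl))).di J1.deg 120 (by decide) hp hq hd'
  · exact (h1 11 hp hd (.inr (.inl rfl))).di J1.deg 56 (by decide) hp hq hd'
  iterate 3 exact (h1 19 hp hd (.inr (.inr rfl))).di J1.deg 120 (by decide) hp hq hd'
  iterate 2 exact (h1 19 hp hd (.inr (.inr rfl))).di J1.deg 77 (by decide) hp hq hd'

theorem dJ3 {K : Type} [Group K] [IsSimpleGroup K] (h : Spor.IsoJ3 K) : Dich K := by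
  have := H306.SD.J.finite_of h
  have hN := J3.card_eq h
  have hL := J3.deg h
  have h5 := fun x hx => (H296.JT.cn5 h (x := x) hx).1
  have h17 := fun x hx => (H898.J3Cent.seventeen h (y := x) hx).1
  have h19 := fun x => H898.J3Cent.card_nineteen h (y := x)
  have h3 : CP 3 K := cp_of_prime Nat.prime_three fun y hy h3 => by
    rcases H898.J3Cent.prime_dvd_card hy ((orderOf_dvd_natCard y).trans hN.dvd) with h2 | h2 | h2 | h2 | h2
    exacts [dvd_index hN ((H898.J3Cent.base h).2.2 y h2).2.1 (by decide), absurd h2 h3, dvd_index hN (h5 y h2) (by decide),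
      dvd_index hN (h17 y h2) (by decide), dvd_index hN (h19 y h2) (by decide)]
  refine dich_of_pairs hN (C := [(5, 2), (3, 2), (3, 5), (3, 17), (3, 19), (17, 2), (17, 5), (19, 2), (19, 5), (19, 17)])
    (by decide +kernel) ?_
  simp only [List.forall_mem_cons]
  refine ⟨?_, ?_, ?_, ?_, ?_, ?_, ?_, ?_, ?_, ?_, List.forall_mem_nil _⟩ <;> intro hp hq hd hd'
  · exact di_two (not_comm (by rw [hN]; norm_num)) hp (by decide) (by decide) hd (by rw [hN]; decide) fun x hx =>
      dvd_index hN (h5 x hx) (by decide)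
  · exact h3.di hL 646 (by decide) hp hq hd'
  iterate 2 exact h3.di hL 85 (by decide) hp hq hd'
  · exact h3.di hL 646 (by decide) hp hq hd'
  iterate 2 exact (cp_of_cent hp hd h17).di hL 1140 (by decide) hp hq hd'
  · exact (cp_of_cent hp hd h19).di hL 324 (by decide) hp hq hd'
  iterate 2 exact (cp_of_cent hp hd h19).di hL 85 (by decide) hp hq hd'

/-- **the dichotomy for the sporadic groups** -/
theorem dich_spor {S : Type} [Group S] [IsSimpleGroup S] (h : IsSporadicGroup S) : Dich S := by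
  rcases h with h | h | h | h | h | h | h | h | h | h | h | h | h | h | h | h | h | h | h | h | h | h | h | h | h | h
  exacts [h.elim (dM11.congr ·), h.elim (dM12.congr ·), h.elim (dM22.congr ·), h.elim (dM23.congr ·), h.elim (dM24.congr ·),
    h.elim (dJ1.congr ·), h.elim (dJ2.congr ·), dJ3 h, h.elim (dJ4.congr ·), h.elim (dCo1.congr ·), h.elim (dCo2.congr ·),
    h.elim (dCo3.congr ·), h.elim (dMcL.congr ·), h.elim (dHS.congr ·), h.elim (dSuz.congr ·), h.elim (dHe.congr ·),
    h.elim (dRu.congr ·), h.elim (dON.congr ·), h.elim (dLy.congr ·), h.elim (dFi22.congr ·), h.elim (dFi23.congr ·),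
    h.elim (dFi24.congr ·), h.elim (dHN.congr ·), h.elim (dTh.congr ·), h.elim (dB.congr ·), h.elim (dM.congr ·)]

theorem dich_tits {S : Type} [Group S] (h : Lie.IsoTits S) : Dich S := dTits h

theorem Dich.fw {S : Type} [Group S] [Finite S] (h : Dich S) : Fw S := fun p q M hM H => by
  have := Fact.mk H.pp
  have := Fact.mk H.pq
  obtain ⟨M', hM'⟩ := Blocks.ExistsModular.exists_isPModular H.pp
  exact ((h.row27 p q H.ne H.dp H.dq M' M hM' hM).1 H.com).1

theorem Dich.cv87 {S : Type} [Group S] [Finite S] (h : Dich S) : Cv87 S := fun p q hp hq hpq Mp Mq hMp hMq _ _ h1 h2 =>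
  have := Fact.mk hp
  have := Fact.mk hq
  (h.row87 p q hpq Mp Mq hMp hMq).1 ⟨h1, h2⟩

theorem fwSpor : All (fun S _ => IsSporadicGroup S) Fw := fun _ _ _ _ _ h => (dich_spor h).fw

theorem cvSpor : All (fun S _ => IsSporadicGroup S) Cv87 := fun _ _ _ _ _ h => (dich_spor h).cv87

theorem fwTits : All (fun S _ => Lie.IsoTits S) Fw := fun _ _ _ _ _ h => (dich_tits h).fw

theorem cvTits : All (fun S _ => Lie.IsoTits S) Cv87 := fun _ _ _ _ _ h => (dich_tits h).cv87

end Cfsg.Agent.PQ.Spor
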