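import Cfsg.Agent.PQ.Spor.Tabs

/-!
# PQ: the dichotomy for the groups with a table (helper33)

Certificates `(p, q, row, s, t)`.
-/

set_option autoImplicit false
set_option maxRecDepth 100000

namespace Cfsg.Agent.PQ.Spor

open Cfsg Cfsg.Agent.TAB.Eng Cfsg.Agent.TAB.Use

theorem HasT.dich {G : Type*} [Group G] {D : Dat} {R : Rows} (h : HasT G D R) (C : List (ℕ × ℕ × ℕ × ℕ × ℕ))
    (hc : D.N ≠ 0 ∧ dichB D R C = true) : Dich G := by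
  obtain ⟨T, hm, h⟩ := h
  have : Finite G := Nat.finite_of_card_ne_zero (hm.1 ▸ hc.1)
  exact dich_of_tab hm h C hc.2

theorem dM11 : Dich Spor.M11 := tM11.dich
    [(3, 2, 1, 2, 3), (3, 5, 1, 0, 0), (11, 5, 1, 0, 0), (11, 2, 1, 7, 1), (3, 11, 2, 0, 0), (5, 2, 3, 4, 1)]
    (by decide +kernel)

theorem dM12 : Dich Spor.M12 := tM12.dich
    [(5, 2, 8, 7, 2), (5, 11, 8, 0, 0), (5, 3, 8, 7, 3), (11, 2, 4, 13, 1), (11, 3, 4, 13, 3), (2, 3, 3, 1, 4)]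
    (by decide +kernel)

theorem dM22 : Dich Spor.M22 := tM22.dich
    [(11, 7, 5, 0, 0), (11, 5, 5, 0, 0), (11, 2, 5, 9, 1), (11, 3, 5, 9, 2), (3, 2, 9, 2, 3), (3, 7, 9, 0, 0),
    (3, 5, 9, 0, 0), (5, 2, 4, 5, 1), (5, 7, 4, 0, 0), (2, 7, 1, 0, 0)]
    (by decide +kernel)

theorem dM23 : Dich Spor.M23 := tM23.dich
    [(23, 11, 9, 0, 0), (23, 5, 9, 0, 0), (23, 7, 9, 0, 0), (23, 2, 9, 11, 1), (3, 2, 9, 2, 3), (3, 7, 9, 0, 0),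
    (3, 5, 9, 0, 0), (3, 11, 9, 0, 0), (7, 5, 11, 0, 0), (7, 2, 11, 6, 3), (7, 11, 11, 0, 0), (11, 5, 2, 0, 0),
    (11, 2, 2, 8, 1), (3, 23, 2, 0, 0), (2, 5, 5, 0, 0)]
    (by decide +kernel)

theorem dM24 : Dich M24 := tM24.dich
    [(2, 3, 12, 1, 4), (2, 11, 12, 0, 0), (2, 23, 12, 0, 0), (2, 7, 12, 0, 0), (5, 2, 13, 8, 1), (5, 11, 13, 0, 0),
    (5, 3, 13, 8, 4), (5, 7, 13, 0, 0), (23, 11, 15, 0, 0), (23, 5, 15, 0, 0), (23, 7, 15, 0, 0), (23, 3, 15, 20, 3),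
    (11, 7, 2, 0, 0), (11, 3, 2, 14, 3), (7, 3, 5, 11, 3)]
    (by decide +kernel)

theorem dTits {S : Type} [Group S] (h : Lie.IsoTits S) : Dich S := (tTits h).dich
    [(5, 2, 1, 7, 2), (5, 3, 1, 7, 3), (5, 13, 1, 0, 0), (13, 3, 2, 13, 3), (13, 2, 2, 13, 1), (2, 3, 4, 1, 3)]
    (by decide +kernel)

theorem dJ2 : Dich Spor.J2 := tJ2.dich
    [(7, 3, 3, 10, 3), (7, 5, 3, 10, 6), (7, 2, 3, 10, 1), (5, 2, 1, 6, 1), (5, 3, 1, 6, 4), (2, 3, 2, 1, 4)]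
    (by decide +kernel)

theorem dJ4 : Dich Spor.J4 := tJ4.dich
    [(5, 7, 37, 0, 0), (23, 7, 15, 0, 0), (23, 2, 15, 30, 1), (23, 3, 15, 30, 3), (23, 29, 15, 0, 0),
    (23, 5, 15, 0, 0), (23, 31, 15, 0, 0), (23, 37, 15, 0, 0), (23, 43, 15, 0, 0), (11, 43, 15, 0, 0),
    (11, 5, 15, 0, 0), (11, 29, 15, 0, 0), (11, 7, 15, 0, 0), (11, 31, 15, 0, 0), (11, 37, 15, 0, 0),
    (11, 2, 15, 17, 2), (11, 3, 15, 18, 3), (37, 5, 14, 0, 0), (37, 2, 14, 38, 1), (37, 43, 14, 0, 0),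
    (37, 7, 14, 0, 0), (37, 29, 14, 0, 0), (37, 3, 14, 38, 3), (37, 31, 14, 0, 0), (43, 7, 33, 0, 0),
    (43, 29, 33, 0, 0), (43, 2, 33, 41, 1), (43, 3, 33, 41, 3), (43, 31, 33, 0, 0), (43, 5, 33, 0, 0),
    (29, 31, 11, 0, 0), (29, 3, 11, 33, 3), (29, 7, 11, 0, 0), (29, 5, 11, 0, 0), (2, 31, 11, 0, 0),
    (2, 5, 11, 0, 0), (2, 3, 11, 12, 3), (2, 7, 11, 0, 0), (31, 5, 38, 0, 0), (31, 3, 38, 35, 3), (31, 7, 38, 0, 0),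
    (2, 29, 2, 0, 0), (11, 23, 4, 0, 0), (3, 7, 19, 0, 0), (3, 5, 41, 0, 0)]
    (by decide +kernel)

theorem dCo1 : Dich Spor.Co1 := tCo1.dich
    [(11, 23, 11, 0, 0), (11, 5, 11, 43, 14), (11, 13, 11, 0, 0), (11, 7, 11, 43, 26), (11, 2, 11, 43, 1),
    (11, 3, 11, 43, 5), (23, 7, 6, 77, 26), (23, 2, 6, 77, 1), (23, 13, 6, 0, 0), (23, 3, 6, 77, 4),
    (23, 5, 6, 77, 14), (5, 2, 7, 14, 3), (5, 3, 7, 14, 5), (5, 7, 7, 14, 27), (5, 13, 7, 0, 0), (7, 3, 9, 26, 6),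
    (7, 13, 9, 0, 0), (7, 2, 9, 26, 1), (13, 3, 5, 57, 5), (13, 2, 5, 57, 1), (2, 3, 10, 1, 7)]
    (by decide +kernel)

theorem dCo2 : Dich Spor.Co2 := tCo2.dich
    [(5, 11, 13, 0, 0), (5, 23, 13, 0, 0), (5, 7, 13, 0, 0), (5, 2, 13, 13, 1), (5, 3, 13, 13, 5), (3, 23, 8, 0, 0),
    (3, 7, 8, 0, 0), (3, 2, 8, 4, 3), (3, 11, 8, 0, 0), (2, 11, 4, 0, 0), (2, 23, 4, 0, 0), (2, 7, 4, 0, 0),
    (11, 23, 7, 0, 0), (11, 7, 7, 0, 0), (7, 23, 9, 0, 0)]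
    (by decide +kernel)

theorem dCo3 : Dich Spor.Co3 := tCo3.dich
    [(5, 11, 16, 0, 0), (5, 23, 16, 0, 0), (5, 7, 16, 0, 0), (5, 2, 16, 8, 2), (5, 3, 16, 8, 4), (23, 11, 8, 0, 0),
    (23, 3, 8, 34, 3), (23, 7, 8, 0, 0), (23, 2, 8, 34, 1), (3, 2, 9, 3, 2), (3, 7, 9, 0, 0), (3, 11, 9, 0, 0),
    (2, 11, 5, 0, 0), (2, 7, 5, 0, 0), (7, 11, 2, 0, 0)]
    (by decide +kernel)

theorem dMcL : Dich Spor.McL := tMcL.dich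
    [(5, 2, 10, 5, 4), (5, 11, 10, 0, 0), (5, 3, 10, 5, 3), (5, 7, 10, 0, 0), (2, 3, 2, 1, 11), (2, 11, 2, 0, 0),
    (2, 7, 2, 0, 0), (11, 7, 3, 0, 0), (11, 3, 3, 13, 2), (3, 7, 4, 0, 0)]
    (by decide +kernel)

theorem dHS : Dich Spor.HS := tHS.dich
    [(3, 2, 7, 3, 5), (3, 7, 7, 0, 0), (3, 5, 7, 3, 8), (3, 11, 7, 0, 0), (5, 2, 3, 7, 2), (5, 11, 3, 0, 0),
    (5, 7, 3, 0, 0), (7, 11, 1, 0, 0), (7, 2, 1, 12, 1), (2, 11, 2, 0, 0)]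
    (by decide +kernel)

theorem dSuz : Dich Spor.Suz := tSuz.dich
    [(5, 11, 8, 0, 0), (5, 7, 8, 0, 0), (5, 13, 8, 0, 0), (5, 2, 8, 14, 1), (5, 3, 8, 14, 4), (3, 2, 13, 4, 11),
    (3, 7, 13, 0, 0), (3, 13, 13, 0, 0), (3, 11, 13, 0, 0), (11, 13, 2, 0, 0), (11, 7, 2, 0, 0), (11, 2, 2, 9, 1),
    (2, 13, 4, 0, 0), (2, 7, 4, 0, 0), (7, 13, 7, 0, 0)]
    (by decide +kernel)

theorem dHe : Dich Spor.He := tHe.dich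
    [(7, 5, 4, 10, 8), (7, 3, 4, 10, 3), (7, 17, 4, 0, 0), (7, 2, 4, 10, 2), (3, 2, 1, 3, 2), (3, 5, 1, 4, 8),
    (3, 17, 1, 0, 0), (2, 5, 2, 2, 8), (2, 17, 2, 0, 0), (17, 5, 3, 19, 8)]
    (by decide +kernel)

theorem dRu : Dich Spor.Ru := tRu.dich
    [(3, 7, 10, 0, 0), (3, 2, 10, 3, 1), (3, 29, 10, 0, 0), (3, 13, 10, 0, 0), (3, 5, 10, 3, 9), (29, 5, 9, 27, 8),
    (29, 7, 9, 0, 0), (29, 2, 9, 27, 1), (29, 13, 9, 0, 0), (5, 2, 3, 8, 2), (5, 7, 3, 0, 0), (5, 13, 3, 0, 0),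
    (13, 7, 4, 0, 0), (13, 2, 4, 19, 2), (2, 7, 5, 0, 0)]
    (by decide +kernel)

theorem dON : Dich Spor.ON := tON.dich
    [(31, 11, 8, 0, 0), (31, 7, 8, 21, 7), (31, 2, 8, 21, 1), (31, 19, 8, 0, 0), (31, 3, 8, 21, 2), (7, 2, 17, 7, 4),
    (7, 3, 17, 7, 2), (7, 19, 17, 0, 0), (7, 5, 17, 0, 0), (7, 11, 17, 0, 0), (3, 2, 13, 2, 4), (3, 19, 13, 0, 0),
    (3, 5, 13, 0, 0), (3, 11, 13, 0, 0), (2, 5, 5, 0, 0), (2, 11, 5, 0, 0), (2, 19, 5, 0, 0), (5, 31, 9, 0, 0),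
    (5, 11, 9, 0, 0), (5, 19, 9, 0, 0), (11, 19, 1, 0, 0)]
    (by decide +kernel)

theorem dLy : Dich Spor.Ly := tLy.dich
    [(37, 5, 15, 35, 5), (37, 67, 15, 0, 0), (37, 7, 15, 0, 0), (37, 2, 15, 35, 1), (37, 11, 15, 0, 0),
    (37, 3, 15, 35, 2), (37, 31, 15, 0, 0), (5, 31, 28, 0, 0), (5, 11, 28, 0, 0), (5, 67, 28, 0, 0),
    (5, 7, 28, 0, 0), (5, 2, 28, 5, 12), (5, 3, 28, 5, 13), (3, 7, 11, 0, 0), (3, 2, 11, 2, 12), (3, 67, 11, 0, 0),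
    (3, 31, 11, 0, 0), (3, 11, 11, 0, 0), (31, 2, 2, 33, 1), (31, 7, 2, 0, 0), (31, 11, 2, 0, 0), (31, 67, 2, 0, 0),
    (11, 7, 8, 0, 0), (11, 2, 8, 16, 4), (11, 67, 8, 0, 0), (7, 67, 6, 0, 0), (7, 2, 6, 10, 11), (2, 67, 3, 0, 0)]
    (by decide +kernel)

theorem dFi22 : Dich Spor.Fi22 := tFi22.dich
    [(11, 5, 8, 35, 13), (11, 13, 8, 0, 0), (11, 7, 8, 0, 0), (11, 2, 8, 35, 1), (11, 3, 8, 35, 4),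
    (2, 3, 12, 1, 30), (2, 5, 12, 1, 13), (2, 13, 12, 0, 0), (2, 7, 12, 0, 0), (5, 3, 5, 13, 4), (5, 7, 5, 0, 0),
    (5, 13, 5, 0, 0), (7, 3, 1, 25, 4), (7, 13, 1, 0, 0), (3, 13, 3, 0, 0)]
    (by decide +kernel)

theorem dFi23 : Dich Spor.Fi23 := tFi23.dich
    [(3, 17, 18, 0, 0), (3, 23, 18, 0, 0), (3, 7, 18, 0, 0), (3, 2, 18, 4, 2), (3, 13, 18, 0, 0), (3, 5, 18, 4, 12),
    (3, 11, 18, 0, 0), (11, 23, 34, 0, 0), (11, 5, 34, 39, 12), (11, 13, 34, 0, 0), (11, 7, 34, 0, 0),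
    (11, 2, 34, 39, 1), (11, 17, 34, 0, 0), (2, 17, 35, 0, 0), (2, 23, 35, 0, 0), (2, 7, 35, 0, 0),
    (2, 13, 35, 0, 0), (2, 5, 35, 8, 12), (13, 7, 11, 0, 0), (13, 17, 11, 0, 0), (13, 23, 11, 0, 0),
    (13, 5, 11, 55, 12), (5, 17, 23, 0, 0), (5, 23, 23, 0, 0), (5, 7, 23, 0, 0), (7, 17, 14, 0, 0),
    (7, 23, 14, 0, 0), (17, 23, 2, 0, 0)]
    (by decide +kernel)

theorem dFi24 : Dich Spor.Fi24' := tFi24.dich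
    [(3, 17, 23, 0, 0), (3, 23, 23, 0, 0), (3, 7, 23, 3, 23), (3, 2, 23, 3, 9), (3, 13, 23, 0, 0), (3, 29, 23, 0, 0),
    (3, 5, 23, 3, 11), (3, 11, 23, 0, 0), (11, 23, 31, 0, 0), (11, 5, 31, 36, 11), (11, 29, 31, 0, 0),
    (11, 13, 31, 0, 0), (11, 7, 31, 36, 23), (11, 2, 31, 36, 1), (11, 17, 31, 0, 0), (29, 17, 13, 0, 0),
    (29, 23, 13, 0, 0), (29, 7, 13, 80, 23), (29, 2, 13, 80, 1), (29, 13, 13, 0, 0), (29, 5, 13, 80, 11),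
    (2, 17, 19, 0, 0), (2, 23, 19, 0, 0), (2, 7, 19, 1, 23), (2, 13, 19, 0, 0), (2, 5, 19, 8, 11), (7, 17, 9, 0, 0),
    (7, 23, 9, 0, 0), (7, 13, 9, 0, 0), (7, 5, 9, 24, 11), (5, 17, 6, 0, 0), (5, 23, 6, 0, 0), (5, 13, 6, 0, 0),
    (17, 23, 1, 0, 0), (17, 13, 1, 0, 0), (13, 23, 3, 0, 0)]
    (by decide +kernel)

theorem dHN : Dich Spor.HN := tHN.dich
    [(5, 11, 4, 0, 0), (5, 7, 4, 0, 0), (5, 19, 4, 0, 0), (5, 2, 4, 8, 2), (5, 3, 4, 8, 4), (2, 3, 9, 1, 4),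
    (2, 11, 9, 0, 0), (2, 7, 9, 0, 0), (2, 19, 9, 0, 0), (3, 7, 14, 0, 0), (3, 19, 14, 0, 0), (3, 11, 14, 0, 0),
    (7, 11, 12, 0, 0), (7, 19, 12, 0, 0), (11, 19, 2, 0, 0)]
    (by decide +kernel)

theorem dTh : Dich Spor.Th := tTh.dich
    [(5, 31, 9, 0, 0), (5, 7, 9, 7, 11), (5, 13, 9, 0, 0), (5, 19, 9, 0, 0), (5, 2, 9, 7, 5), (5, 3, 9, 7, 2),
    (2, 7, 10, 6, 11), (2, 13, 10, 0, 0), (2, 19, 10, 0, 0), (2, 3, 10, 1, 15), (2, 31, 10, 0, 0), (7, 3, 16, 11, 3),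
    (7, 13, 16, 0, 0), (7, 19, 16, 0, 0), (7, 31, 16, 0, 0), (3, 13, 3, 0, 0), (3, 19, 3, 0, 0), (3, 31, 3, 0, 0),
    (31, 13, 4, 0, 0), (31, 19, 4, 0, 0), (13, 19, 6, 0, 0)]
    (by decide +kernel)

theorem dB : Dich Spor.BabyMonster := tB.dich
    [(3, 17, 20, 0, 0), (3, 23, 20, 0, 0), (3, 7, 20, 6, 30), (3, 2, 20, 5, 15), (3, 13, 20, 0, 0),
    (3, 19, 20, 0, 0), (3, 47, 20, 0, 0), (3, 31, 20, 0, 0), (3, 5, 20, 5, 18), (3, 11, 20, 0, 0),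
    (13, 17, 30, 0, 0), (13, 23, 30, 0, 0), (13, 11, 30, 0, 0), (13, 7, 30, 74, 30), (13, 2, 30, 74, 2),
    (13, 5, 30, 74, 17), (13, 19, 30, 0, 0), (13, 47, 30, 0, 0), (13, 31, 30, 0, 0), (2, 17, 15, 0, 0),
    (2, 23, 15, 0, 0), (2, 7, 15, 12, 30), (2, 19, 15, 0, 0), (2, 47, 15, 0, 0), (2, 31, 15, 0, 0),
    (2, 5, 15, 1, 18), (2, 11, 15, 0, 0), (5, 31, 18, 0, 0), (5, 11, 18, 0, 0), (5, 17, 18, 0, 0), (5, 23, 18, 0, 0),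
    (5, 7, 18, 18, 30), (5, 19, 18, 0, 0), (5, 47, 18, 0, 0), (7, 17, 14, 0, 0), (7, 23, 14, 0, 0),
    (7, 19, 14, 0, 0), (7, 47, 14, 0, 0), (7, 31, 14, 0, 0), (7, 11, 14, 0, 0), (11, 23, 16, 0, 0),
    (11, 19, 16, 0, 0), (11, 47, 16, 0, 0), (11, 31, 16, 0, 0), (11, 17, 16, 0, 0), (17, 23, 7, 0, 0),
    (17, 47, 7, 0, 0), (17, 31, 7, 0, 0), (17, 19, 7, 0, 0), (19, 47, 8, 0, 0), (19, 31, 8, 0, 0), (19, 23, 8, 0, 0),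
    (47, 31, 2, 0, 0), (47, 23, 2, 0, 0), (31, 23, 4, 0, 0)]
    (by decide +kernel)

theorem dM : Dich Spor.Monster := tM.dich
    [(2, 59, 30, 0, 0), (2, 17, 30, 0, 0), (2, 23, 30, 0, 0), (2, 7, 30, 1, 19), (2, 71, 30, 0, 0),
    (2, 29, 30, 0, 0), (2, 13, 30, 1, 45), (2, 19, 30, 0, 0), (2, 3, 30, 1, 5), (2, 41, 30, 0, 0), (2, 47, 30, 0, 0),
    (2, 31, 30, 0, 0), (2, 5, 30, 2, 86), (2, 11, 30, 7, 33), (47, 3, 76, 130, 3), (47, 59, 76, 0, 0),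
    (47, 71, 76, 0, 0), (47, 11, 76, 130, 33), (47, 17, 76, 0, 0), (47, 23, 76, 0, 0), (47, 7, 76, 130, 18),
    (47, 29, 76, 0, 0), (47, 13, 76, 130, 44), (47, 19, 76, 0, 0), (47, 41, 76, 0, 0), (47, 31, 76, 0, 0),
    (47, 5, 76, 130, 10), (3, 59, 119, 0, 0), (3, 17, 119, 0, 0), (3, 23, 119, 0, 0), (3, 7, 119, 4, 18),
    (3, 71, 119, 0, 0), (3, 29, 119, 0, 0), (3, 13, 119, 3, 45), (3, 19, 119, 0, 0), (3, 41, 119, 0, 0),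
    (3, 31, 119, 0, 0), (3, 5, 119, 3, 11), (3, 11, 119, 5, 33), (59, 29, 61, 0, 0), (59, 13, 61, 141, 44),
    (59, 19, 61, 0, 0), (59, 41, 61, 0, 0), (59, 71, 61, 0, 0), (59, 31, 61, 0, 0), (59, 5, 61, 141, 10),
    (59, 11, 61, 141, 33), (59, 17, 61, 0, 0), (59, 23, 61, 0, 0), (59, 7, 61, 141, 18), (13, 17, 70, 0, 0),
    (13, 23, 70, 0, 0), (13, 11, 70, 44, 33), (13, 71, 70, 0, 0), (13, 7, 70, 44, 18), (13, 29, 70, 0, 0),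
    (13, 5, 70, 44, 10), (13, 19, 70, 0, 0), (13, 41, 70, 0, 0), (13, 31, 70, 0, 0), (11, 23, 75, 0, 0),
    (11, 71, 75, 0, 0), (11, 5, 75, 33, 11), (11, 29, 75, 0, 0), (11, 19, 75, 0, 0), (11, 41, 75, 0, 0),
    (11, 31, 75, 0, 0), (11, 7, 75, 33, 18), (11, 17, 75, 0, 0), (17, 23, 13, 0, 0), (17, 7, 13, 56, 19),
    (17, 71, 13, 0, 0), (17, 29, 13, 0, 0), (17, 5, 13, 56, 10), (17, 19, 13, 0, 0), (17, 41, 13, 0, 0),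
    (17, 31, 13, 0, 0), (7, 23, 31, 0, 0), (7, 71, 31, 0, 0), (7, 29, 31, 0, 0), (7, 5, 31, 18, 11),
    (7, 19, 31, 0, 0), (7, 41, 31, 0, 0), (7, 31, 31, 0, 0), (29, 71, 26, 0, 0), (29, 23, 26, 0, 0),
    (29, 19, 26, 0, 0), (29, 5, 26, 94, 10), (29, 41, 26, 0, 0), (29, 31, 26, 0, 0), (5, 31, 43, 0, 0),
    (5, 23, 43, 0, 0), (5, 71, 43, 0, 0), (5, 19, 43, 0, 0), (5, 41, 43, 0, 0), (31, 19, 20, 0, 0),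
    (31, 23, 20, 0, 0), (31, 41, 20, 0, 0), (31, 71, 20, 0, 0), (71, 19, 7, 0, 0), (71, 41, 7, 0, 0),
    (71, 23, 7, 0, 0), (41, 19, 22, 0, 0), (41, 23, 22, 0, 0), (19, 23, 24, 0, 0)]
    (by decide +kernel)

end Cfsg.Agent.PQ.Spor
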